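import Groth.Agent.Lib.Kleiman.Proper
import Groth.Agent.Lib.Euler.AmpleIff
import Groth.Agent.Lib.Euler.AmpleCurve
import Groth.Agent.Lib.Ample.ProjSections
import Groth.Agent.Lib.Ample.Generation
import Groth.Agent.Lib.CurveModel.Pencil
import Groth.Agent.Lib.UnifVanish7.Spanned
import Groth.Agent.Lib.OX.FlatLocFree
import Groth.Agent.Lib.Ample.RelAmple
import Groth.Agent.Lib.Chow.Prod
import Mathlib.AlgebraicGeometry.ZariskisMainTheorem

/-!
# Strictly nef semiample modules are ample
-/

universe u

set_option backward.isDefEq.respectTransparency false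
set_option linter.all false

open CategoryTheory CategoryTheory.Limits AlgebraicGeometry TopologicalSpace Opposite
open GrothLib.Ample (Cocycle)
open GrothLib.QCoh (stalkLin)

noncomputable section

namespace GrothLib.Semiample

variable {X : Scheme.{u}}

/-- A globally generated module is generated at the stalks by a family of global sections. -/
theorem exists_generatedBy {M : X.Modules} (h : Curv2.IsGloballyGenerated M) :
    ∃ (ι : Type u) (s : ι → ProjUP.Γm M), ProjUP.GeneratedBy M s := by
  obtain ⟨ι, p, hp⟩ := h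
  let q : ι → (Coh.structureModule X ⟶ M) := fun i => SheafOfModules.ιFree i ≫ p
  let one : Γ(Coh.structureModule X, ⊤) := (1 : Γ(X, ⊤))
  refine ⟨ι, fun i => (q i).app ⊤ one, fun x => ?_⟩
  let S : Submodule (X.presheaf.stalk x) (M.presheaf.stalk x) := Submodule.span (X.presheaf.stalk x)
    (Set.range fun i => M.presheaf.germ ⊤ x trivial ((q i).app ⊤ one))
  have hmem : ∀ i v, stalkLin (q i) x v ∈ S := by
    intro i v
    obtain ⟨U, hU, r, rfl⟩ := TopCat.Presheaf.exists_germ_eq (Coh.structureModule X).presheaf v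
    rw [QCoh.stalkLin_germ]
    have h1 : r = (show Γ(X, U) from r) • InvExt.mres (Coh.structureModule X) (le_top : U ≤ ⊤) one := by
      show r = (show Γ(X, U) from r) * (X.presheaf.map (homOfLE (le_top : U ≤ ⊤)).op).hom 1
      rw [map_one, mul_one]
    rw [h1, Ample.app_smul, Ample.app_mres, WeakAss.germ_smul]
    exact Submodule.smul_mem _ _ (Submodule.subset_span
      ⟨i, (TopCat.Presheaf.germ_res_apply M.presheaf (homOfLE le_top) x hU _).symm⟩)
  haveI : PreservesColimitsOfSize.{u, u} (OX.stalk x) := (OX.stalkSkyAdj x).leftAdjoint_preservesColimits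
  have hq : (OX.stalk x).map p ≫ ModuleCat.ofHom S.mkQ = 0 := by
    refine (isColimitOfPreserves (OX.stalk x) (colimit.isColimit
      (Discrete.functor fun _ : ι => Coh.structureModule X))).hom_ext fun i => ?_
    rw [comp_zero]
    show (OX.stalk x).map (SheafOfModules.ιFree i.as : Coh.structureModule X ⟶ _) ≫ (OX.stalk x).map p ≫ ModuleCat.ofHom S.mkQ = 0
    rw [← Category.assoc]
    erw [← Functor.map_comp]
    exact ModuleCat.hom_ext (LinearMap.ext fun v => (Submodule.Quotient.mk_eq_zero S).2 (hmem i.as v))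
  refine eq_top_iff.2 fun m _ => ?_
  obtain ⟨m', rfl⟩ := (ModuleCat.epi_iff_surjective ((OX.stalk x).map p)).1 inferInstance m
  exact (Submodule.Quotient.mk_eq_zero S).1 (congrArg (fun g : _ ⟶ ModuleCat.of _ (_ ⧸ S) => g m') hq)

/-- A globally generated invertible module on a quasi-compact scheme has finitely many generating sections. -/
theorem exists_sections [CompactSpace X] (c : Cocycle X) (h : Curv2.IsGloballyGenerated (c.twist 1)) :
    ∃ (n : ℕ) (a : Fin (n + 1) → c.sect 1 ⊤), ⨆ i, c.locus (a i) = ⊤ := by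
  classical
  obtain ⟨ι, s, hs⟩ := exists_generatedBy h
  have hc := c.iSup_locus_of_generatedBy (Iso.refl _) s hs
  obtain ⟨t, ht⟩ := isCompact_univ.elim_finite_subcover
    (fun i => (c.locus (show c.sect 1 ⊤ from s i) : Set X)) (fun i => (c.locus _).isOpen)
    (fun x _ => by
      obtain ⟨i, hi⟩ := Opens.mem_iSup.1 (hc.ge (Opens.mem_top x))
      exact Set.mem_iUnion.2 ⟨i, hi⟩)
  refine ⟨t.card, Fin.cons 0 fun j => (show c.sect 1 ⊤ from s (t.equivFin.symm j)), eq_top_iff.2 fun x _ => ?_⟩
  obtain ⟨i, hit, hxi⟩ := Set.mem_iUnion₂.1 (ht (Set.mem_univ x))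
  refine Opens.mem_iSup.2 ⟨(t.equivFin ⟨i, hit⟩).succ, ?_⟩
  rw [Fin.cons_succ, Equiv.symm_apply_apply]
  exact hxi

/-- A point of a closed set which is not closed specializes to a point with one-dimensional closure. -/
theorem exists_isTop_one [NoetherianSpace X] [QuasiSober X] {z : X} (hz : ¬ IsClosed ({z} : Set X)) :
    ∃ w : X, z ⤳ w ∧ Snapper.IsTop 1 w := by
  obtain ⟨C, ⟨w, hzw, hw, rfl⟩, hmin⟩ := (wellFounded_lt (α := Closeds X)).has_min
    {C : Closeds X | ∃ w : X, z ⤳ w ∧ ¬ IsClosed ({w} : Set X) ∧ C = ⟨closure {w}, isClosed_closure⟩}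
    ⟨_, z, specializes_rfl, hz, rfl⟩
  refine ⟨w, hzw, Snapper.isTop_of (fun l hl => ?_) fun hd => ?_⟩
  · by_contra hlen
    push Not at hlen
    let i0 : Fin (l.length + 1) := ⟨0, by omega⟩
    let i1 : Fin (l.length + 1) := ⟨1, by omega⟩
    let i2 : Fin (l.length + 1) := ⟨2, by omega⟩
    have h01 : l i0 < l i1 := l.strictMono (show (0 : ℕ) < 1 from Nat.zero_lt_one)
    have h12 : l i1 < l i2 := l.strictMono (show (1 : ℕ) < 2 from Nat.one_lt_two)
    have hwv : w ⤳ l i1 := specializes_iff_mem_closure.2 (hl i1)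
    have hvc : ¬ IsClosed ({l i1} : Set X) := fun hc =>
      h01.ne (Set.mem_singleton_iff.1 (Specializes.mem_closed (show l i1 ⤳ l i0 from h01.le) hc rfl))
    refine hmin ⟨closure {l i1}, isClosed_closure⟩ ⟨l i1, hzw.trans hwv, hvc, rfl⟩ ?_
    refine lt_of_le_of_ne (show closure ({l i1} : Set X) ⊆ closure {w} from
      closure_minimal (Set.singleton_subset_iff.2 (hl i1)) isClosed_closure) fun he => ?_
    have he' : closure ({l i1} : Set X) = closure {w} := congrArg (fun C : Closeds X => (C : Set X)) he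
    exact h12.not_ge (specializes_iff_mem_closure.2 (he'.symm ▸ hl i2) : l i1 ⤳ l i2)
  · obtain ⟨v, hv, hne⟩ : ∃ v ∈ closure ({w} : Set X), v ≠ w := by
      by_contra hall
      push Not at hall
      exact hw (closure_eq_iff_isClosed.1 (subset_antisymm (fun v hv => hall v hv) subset_closure))
    have hlt : v < w := lt_of_le_not_ge (show w ⤳ v from specializes_iff_mem_closure.2 hv) fun h2 =>
      hne (Specializes.antisymm (show v ⤳ w from h2) (specializes_iff_mem_closure.2 hv)).eq
    have h3 := hd ((RelSeries.singleton _ v).snoc w hlt) fun i => by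
      refine Fin.lastCases ?_ (fun i => ?_) i
      · rw [show ((RelSeries.singleton _ v).snoc w hlt) (Fin.last _) = w from RelSeries.last_snoc _ w hlt]
        exact subset_closure rfl
      · rw [show ((RelSeries.singleton _ v).snoc w hlt) i.castSucc = v from RelSeries.snoc_castSucc _ w hlt i]
        exact hv
    simp at h3

variable (k : Type u) [Field k] [X.Over (Spec (CommRingCat.of k))] [IsProper (X ↘ Spec (CommRingCat.of k))]

/-- A semiample module positive on the integral curves is ample. -/
theorem isAmple_of_semiample {L : X.Modules} (hL : PicF.IsInvertible L)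
    (hpos : ∀ C : X.IdealSheafData, IsIntegral C.subscheme →
      topologicalKrullDim (C.support : Set X) = 1 →
        0 < Curv2.euler k X (CohB1.tensorMod (ClSub.quotMod C) L) - Curv2.euler k X (ClSub.quotMod C))
    {m : ℕ} (hgg : Curv2.IsGloballyGenerated (CohB1.tensorPow L (m + 1))) : CohB1.IsAmple L := by
  haveI := Euler.isNoetherian_of_proper (X := X) k
  obtain ⟨c, ⟨e⟩⟩ := Ample.exists_cocycle hL
  obtain ⟨d⟩ := c.nonempty_tensorPow_iso_pow e (m + 1)
  rw [Ample.isAmple_tensorPow_iff hL m.succ_pos, (c.pow (m + 1)).isAmple_iff d]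
  obtain ⟨n, a, ha⟩ := exists_sections (c.pow (m + 1)) (Ample.isGloballyGenerated_of_iso d hgg)
  let σ : Fin (n + 1) → ProjUP.Γm ((c.pow (m + 1)).twist 1) := fun i => a i
  have hsec : ∀ i, Ample.ProjMap.sec (c.pow (m + 1)) (Iso.refl _) σ i = a i := fun i => rfl
  have hσ : ⨆ i, (c.pow (m + 1)).locus (Ample.ProjMap.sec (c.pow (m + 1)) (Iso.refl _) σ i) = ⊤ := ha
  let D := Ample.ProjMap.dataOfSections (c.pow (m + 1)) (Iso.refl _) σ hσ (X ↘ Spec (CommRingCat.of k))
  let φ := D.map
  have hpre : ∀ i, φ ⁻¹ᵁ Proj.basicOpen (CohB1.polyGrading n k) (MvPolynomial.X i) = (c.pow (m + 1)).locus (a i) :=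
    fun i => D.map_preimage i
  haveI := Chow.isProper_toSpec n k
  haveI : IsProper (φ ≫ CohB1.ProjSpace.toSpec n k) := by rw [D.map_toSpec]; infer_instance
  haveI : IsProper φ := IsProper.of_comp φ (CohB1.ProjSpace.toSpec n k)
  have hclosed : ∀ y : CohB1.ProjSpace n k, IsClosed ({y} : Set (CohB1.ProjSpace n k)) → ∀ z ∈ φ ⁻¹' {y},
      IsClosed ({z} : Set X) := by
    intro y hy z hzy
    by_contra hzc
    obtain ⟨w, hzw, hw⟩ := exists_isTop_one hzc
    let I := Scheme.IdealSheafData.vanishingIdeal (⟨closure ({w} : Set X), isClosed_closure⟩ : Closeds X)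
    letI : I.subscheme.Over (Spec (CommRingCat.of k)) := ⟨I.subschemeι ≫ X ↘ Spec (CommRingCat.of k)⟩
    haveI : IsProper (I.subscheme ↘ Spec (CommRingCat.of k)) :=
      inferInstanceAs (IsProper (I.subschemeι ≫ X ↘ Spec (CommRingCat.of k)))
    haveI : IsIntegral I.subscheme := Snapper.isIntegral_pt w
    have hI : topologicalKrullDim I.subscheme = 1 := by
      refine (IsHomeomorph.topologicalKrullDim_eq _
        I.subschemeι.isClosedEmbedding.isEmbedding.toHomeomorph.isHomeomorph).trans ?_
      rw [Snapper.range_pt]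
      exact hw
    have hsupp : topologicalKrullDim (I.support : Set X) = 1 := by
      rw [← Scheme.IdealSheafData.range_subschemeι, Snapper.range_pt]
      exact hw
    have h1 := hpos I inferInstance hsupp
    obtain ⟨i, hi⟩ := Opens.mem_iSup.1 ((Ample.ProjMap.iSup_basicOpen_X n k).ge (Opens.mem_top y))
    have hin : ∀ v : I.subscheme, I.subschemeι v ∈ (c.pow (m + 1)).locus (a i) := fun v => by
      have hv : I.subschemeι v ∈ closure ({w} : Set X) := Snapper.range_pt w ▸ ⟨v, rfl⟩
      have hv' : φ (I.subschemeι v) = y := (hy.preimage φ.continuous).closure_subset_iff.2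
        (Set.singleton_subset_iff.2 (hzw.mem_closed (hy.preimage φ.continuous) hzy)) hv
      rw [← hpre i]
      show φ (I.subschemeι v) ∈ Proj.basicOpen (CohB1.polyGrading n k) (MvPolynomial.X i)
      rw [hv']
      exact hi
    let c' := (c.pow (m + 1)).comap I.subschemeι
    let a' : c'.sect 1 ⊤ := (c.pow (m + 1)).pullSect I.subschemeι le_top (a i)
    have hiso : IsIso (c'.hom a') := by
      have ht : c'.locus a' = ⊤ := eq_top_iff.2 fun v _ => by
        rw [(c.pow (m + 1)).locus_pullSect]
        exact hin v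
      exact Ample.isIso_of_cover _ (fun _ : Unit => (⊤ : I.subscheme.Opens)) (by simp) fun _ W _ => c'.bijective_hom_app a' (ht ▸ le_top)
    obtain ⟨u⟩ := c.nonempty_pullback_iso I.subschemeι e
    have hdeg : Curv2.deg k I.subscheme ((c.comap I.subschemeι).twist (m + 1)) 1 = 0 := by
      obtain ⟨q'⟩ := (c.comap I.subschemeι).nonempty_pow_twist (m + 1) 1
      have h3 : Curv2.deg k I.subscheme (c'.twist 1) 1 = 0 := by
        unfold Curv2.deg
        rw [← Euler.euler_of_iso k (asIso (c'.hom a')), Nat.cast_one, one_mul, sub_self]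
      rw [← h3]
      exact Euler.deg_of_iso k (eqToIso (congrArg (c.comap I.subschemeι).twist (mul_one (m + 1)).symm) ≪≫ q'.symm ≪≫ (((c.nonempty_comap_pow I.subschemeι (m + 1) 1).some))) 1
    rw [Euler.deg_twist k (c.comap I.subschemeι) hI.le] at hdeg
    have h4 : Curv2.deg k I.subscheme ((c.comap I.subschemeι).twist 1) 1 = 0 :=
      (mul_eq_zero.1 hdeg).resolve_left (by push_cast; omega)
    have h5 : Curv2.euler k I.subscheme ((c.comap I.subschemeι).twist 1) =
        Curv2.euler k X (CohB1.tensorMod (ClSub.quotMod I) L) := by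
      rw [← Euler.euler_of_iso k u, Kleiman.euler_pullback_eq_quotMod k I.subschemeι rfl hL,
        Scheme.IdealSheafData.ker_subschemeι]
    have h6 : Curv2.euler k I.subscheme (Coh.structureModule I.subscheme) = Curv2.euler k X (ClSub.quotMod I) := by
      rw [← Euler.euler_of_iso k (Ample.nonempty_pullback_structureModule I.subschemeι).some,
        Kleiman.euler_pullback_eq_quotMod k I.subschemeι rfl Euler.isInvertible_structure,
        Scheme.IdealSheafData.ker_subschemeι]
      exact Kleiman.euler_tensor_structure k _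
    unfold Curv2.deg at h4
    rw [h5, h6] at h4
    omega
  have hqf : φ.quasiFiniteLocus = ⊤ := by
    refine eq_top_iff.2 fun x _ => ?_
    obtain ⟨p, hp, hpc⟩ := IsClosed.exists_closed_singleton (S := closure ({x} : Set X)) isClosed_closure
      ⟨x, subset_closure rfl⟩
    refine (specializes_iff_mem_closure.2 hp).mem_open φ.quasiFiniteLocus.isOpen ?_
    show φ.QuasiFiniteAt p
    have hy : IsClosed ({φ p} : Set (CohB1.ProjSpace n k)) := by
      have := φ.isClosedMap _ hpc
      rwa [Set.image_singleton] at this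
    have hfin : (φ ⁻¹' {φ p}).Finite :=
      CurveModel.finite_of_forall_isClosed (hy.preimage φ.continuous) (hclosed _ hy)
    rw [Scheme.Hom.quasiFiniteAt_iff_isOpen_singleton_asFiber]
    haveI := hfin.to_subtype
    haveI : Finite (φ.fiber (φ p)) := Finite.of_equiv _ (φ.fiberHomeo (φ p)).symm.toEquiv
    haveI : T1Space (φ.fiber (φ p)) := ⟨fun v => by
      rw [← Set.preimage_image_eq {v} (φ.fiberι _).isEmbedding.injective, Set.image_singleton]
      exact (hclosed _ hy _ (by
        have : φ.fiberι (φ p) v ∈ Set.range (φ.fiberι (φ p)) := ⟨v, rfl⟩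
        rwa [Scheme.Hom.range_fiberι] at this)).preimage (φ.fiberι _).continuous⟩
    exact isOpen_discrete _
  haveI : LocallyQuasiFinite φ := φ.quasiFiniteLocus_eq_top_iff.1 hqf
  haveI : IsFinite φ := IsFinite.of_isProper_of_locallyQuasiFinite _
  refine ⟨inferInstance, fun x => ?_⟩
  obtain ⟨i, hi⟩ := Opens.mem_iSup.1 (ha.ge (Opens.mem_top x))
  refine ⟨0, a i, hi, ?_⟩
  show IsAffineOpen ((c.pow (m + 1)).locus (a i))
  rw [← hpre i]
  exact (Proj.isAffineOpen_basicOpen _ _ (Ample.ProjMap.X_mem i) one_pos).preimage φ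

end GrothLib.Semiample
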