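import Groth.Agent.Lib.Semiample.Criterion
import Groth.Agent.Lib.Nakai.Integral
import Groth.Agent.Lib.Ample.Twisting
import Groth.Agent.Lib.RedSub.Basic

/-!
# Sections along the zero locus of a section
-/

universe u

set_option backward.isDefEq.respectTransparency false
set_option linter.all false

open CategoryTheory CategoryTheory.Limits AlgebraicGeometry TopologicalSpace Opposite
open GrothLib.InvExt (mres)
open GrothLib.Ample (Cocycle res)
open GrothLib.SerreVanish (EvAcyclic twistSeq twistSeq_shortExact)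

noncomputable section

namespace GrothLib.Semiample

variable {X : Scheme.{u}} (c : Cocycle X)

/-- A function vanishes on a reduced scheme mapping outside of its basic open. -/
theorem app_eq_zero_of_disjoint {Z : Scheme.{u}} (i : Z ⟶ X) [IsReduced Z] {U : X.Opens} (r : Γ(X, U))
    (h : ∀ z, i z ∉ X.basicOpen r) : i.app U r = 0 := by
  rw [← basicOpen_eq_bot_iff, ← Scheme.preimage_basicOpen]
  exact Opens.ext (Set.eq_empty_of_forall_notMem fun z hz => h z hz)

/-- A section kills the modules supported on a reduced scheme inside its zero locus. -/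
theorem mraiseHom_push_eq_zero {Z : Scheme.{u}} (i : Z ⟶ X) [IsReduced Z] (P : Z.Modules) {m : ℕ}
    (s : c.sect m ⊤) (h : ∀ z, i z ∉ c.locus s) (n : ℕ) :
    c.mraiseHom ((Scheme.Modules.pushforward i).obj P) s n 1 = 0 := by
  refine Scheme.Modules.hom_ext _ _ fun V => ?_
  ext (b : c.msect ((Scheme.Modules.pushforward i).obj P) n V)
  refine c.msect_ext fun j => ?_
  show res (inf_le_inf_right (c.D j) (le_top : V ≤ ⊤)) (s.1 j) ^ 1 • b.1 j =
    (0 : Γ((Scheme.Modules.pushforward i).obj P, V ⊓ c.D j))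
  rw [pow_one]
  refine (Ample.pushforward_smul i P (V := V ⊓ c.D j) _ _).trans ?_
  have h0 : i.app (V ⊓ c.D j) (res (inf_le_inf_right (c.D j) (le_top : V ≤ ⊤)) (s.1 j)) = 0 := by
    refine app_eq_zero_of_disjoint i _ fun z hz => h z ?_
    rw [Scheme.basicOpen_res, ← c.locus_inf_D s j] at hz
    exact hz.2.1
  rw [show i.appLE (V ⊓ c.D j) (i ⁻¹ᵁ (V ⊓ c.D j)) le_rfl = i.app (V ⊓ c.D j) from
    (Scheme.Hom.app_eq_appLE i).symm, h0]
  exact zero_smul _ _

/-- Multiplication by a section commutes with the twists of a map. -/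
theorem mtwistMap_mraiseHom {M N : X.Modules} (φ : M ⟶ N) {m : ℕ} (s : c.sect m ⊤) (n j : ℕ) :
    c.mtwistMap φ n ≫ c.mraiseHom N s n j = c.mraiseHom M s n j ≫ c.mtwistMap φ (n + m * j) := by
  refine Scheme.Modules.hom_ext _ _ fun V => ?_
  ext (b : c.msect M n V)
  refine c.msect_ext fun i => ?_
  exact (Ample.app_smul φ _ _).symm

variable (k : Type u) [Field k] [X.Over (Spec (CommRingCat.of k))] [IsProper (X ↘ Spec (CommRingCat.of k))]

include k in
/-- Multiplication by a section is injective on first cohomology in some positive degree. -/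
theorem exists_injective_mraise {M : X.Modules} (hM : Coh.IsCoh M) {m : ℕ} (s : c.sect m ⊤)
    (hsmall : ∀ P : X.Modules, Coh.IsCoh P → CohB1.support P ⊆ (c.locus s : Set X)ᶜ → EvAcyclic c P) :
    ∃ n, 0 < n ∧ Function.Injective (Cohom.hhMap k (c.mraiseHom M s n 1) 1) := by
  haveI := Euler.isNoetherian_of_proper (X := X) k
  obtain ⟨n₁, hn₁⟩ := Nakai.exists_surjective_hhMap c k hM s hsmall
  haveI hfd : ∀ n, FiniteDimensional k (Coh.HH X (c.modTwist M n) 1) := fun n =>
    Euler.finiteDimensional_HH k (Euler.isCoh_modTwist c hM n) 1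
  let f : ℕ → ℕ := fun N => Module.finrank k (Coh.HH X (c.modTwist M (n₁ + 1 + m * N)) 1)
  obtain ⟨N, hN⟩ : ∃ N, ∀ N', f N ≤ f N' := ⟨Function.argmin f, fun N' => Function.argmin_le f N'⟩
  refine ⟨n₁ + 1 + m * N, by omega, ?_⟩
  have hsurj := hn₁ (n₁ + 1 + m * N) (by omega) 1
  refine (LinearMap.injective_iff_surjective_of_finrank_eq_finrank ?_).2 hsurj
  refine le_antisymm ?_ (LinearMap.finrank_le_finrank_of_surjective hsurj)
  refine (hN (N + 1)).trans (le_of_eq ?_)
  show Module.finrank k (Coh.HH X (c.modTwist M (n₁ + 1 + m * (N + 1))) 1) = _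
  rw [show n₁ + 1 + m * (N + 1) = n₁ + 1 + m * N + m * 1 by ring]

include k in
/-- Injectivity of multiplication by a section on the first cohomology of the twisted ideal of a
closed point of its zero locus gives a section not vanishing there. -/
theorem exists_sect_of_injective {m : ℕ} (s : c.sect m ⊤) {x : X} (hx : IsClosed ({x} : Set X))
    (hxs : x ∉ c.locus s) {n : ℕ}
    (hinj : Function.Injective (Cohom.hhMap k (c.mraiseHom (Ample.vMod (⟨{x}, hx⟩ : Closeds X)) s n 1) 1)) :
    ∃ b : c.sect n ⊤, x ∈ c.locus b := by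
  haveI := Euler.isNoetherian_of_proper (X := X) k
  let T : Closeds X := ⟨{x}, hx⟩
  let I := Scheme.IdealSheafData.vanishingIdeal T
  haveI : IsReduced I.subscheme := RedSub.isReduced_subscheme_vanishingIdeal T
  have hrange : ∀ z, I.subschemeι z = x := fun z => by
    have hz : I.subschemeι z ∈ Set.range I.subschemeι := ⟨z, rfl⟩
    rw [Scheme.IdealSheafData.range_subschemeι] at hz
    simpa [I, T] using hz
  haveI := Euler.epi_toSubscheme I
  haveI : Mono (ClSub.idealModι I) := inferInstanceAs (Mono (kernel.ι (ClSub.toSubscheme I)))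
  let S := ShortComplex.mk (ClSub.idealModι I) (ClSub.toSubscheme I) (kernel.condition _)
  have hS : S.ShortExact :=
    haveI : Mono S.f := ‹Mono (ClSub.idealModι I)›
    haveI : Epi S.g := ‹Epi (ClSub.toSubscheme I)›
    { exact := ShortComplex.exact_of_f_is_kernel _ (kernelIsKernel _) }
  have hTn := twistSeq_shortExact c n hS
  have hTp := twistSeq_shortExact c (n + m * 1) hS
  haveI : Mono (twistSeq c (n + m * 1) S).f := hTp.mono_f
  -- multiplication by `s` factors through the ideal of the point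
  have hzero : c.mraiseHom S.X₂ s n 1 ≫ (twistSeq c (n + m * 1) S).g = 0 := by
    show c.mraiseHom S.X₂ s n 1 ≫ c.mtwistMap S.g (n + m * 1) = 0
    rw [← mtwistMap_mraiseHom, show c.mraiseHom S.X₃ s n 1 = 0 from
      mraiseHom_push_eq_zero c I.subschemeι _ s (fun z => by rw [hrange z]; exact hxs) n, comp_zero]
  let ψ := hTp.exact.lift _ hzero
  have hψ : c.mtwistMap S.f n ≫ ψ = c.mraiseHom S.X₁ s n 1 := by
    rw [← cancel_mono (twistSeq c (n + m * 1) S).f, Category.assoc, hTp.exact.lift_f]
    exact mtwistMap_mraiseHom c S.f s n 1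
  have hsurj : Function.Surjective (Cohom.hhMap k (twistSeq c n S).g 0) := fun q => by
    refine (Cohom.exact₃ (A := k) hTn 0 q).1 ?_
    have h1 : Cohom.hhMap k (c.mtwistMap S.f n) (0 + 1) (Cohom.hhDelta k hTn 0 q) = 0 :=
      (Cohom.exact₁ (A := k) hTn 0 _).2 ⟨q, rfl⟩
    refine hinj ?_
    rw [map_zero]
    show Cohom.hhMap k (c.mraiseHom S.X₁ s n 1) (0 + 1) _ = 0
    rw [← hψ, Euler.hhMap_comp, h1, map_zero]
  by_contra hcon
  push Not at hcon
  -- every section dies at the point
  have hkill : ∀ b : c.msect (Coh.structureModule X) n ⊤, c.msectMap S.g b = 0 := fun b => by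
    refine c.msect_ext fun j => ?_
    show I.subschemeι.app (⊤ ⊓ c.D j) (b.1 j) = 0
    refine app_eq_zero_of_disjoint I.subschemeι _ fun z hz => hcon (c.toSect b) ?_
    have hz' : I.subschemeι z ∈ c.D j ⊓ c.locus (c.toSect b) := by
      rw [inf_comm, c.locus_inf_D]
      exact hz
    rw [hrange z] at hz'
    exact hz'.2
  have hQ : ∀ q : c.msect (ClSub.quotMod I) n ⊤, q = 0 := fun q => by
    obtain ⟨w, hw⟩ := hsurj ((ProjCoh.H0top (c.modTwist (ClSub.quotMod I) n)).symm q)
    have h2 := congrArg (ProjCoh.H0top (c.modTwist (ClSub.quotMod I) n)) hw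
    rw [AddEquiv.apply_symm_apply, Cohom.hhMap_apply] at h2
    rw [← show c.msectMap S.g (ProjCoh.H0top _ w) = q from
      (ProjCoh.H0top_map ((QCoh.toAbFun X).map (c.mtwistMap S.g n)) w).symm.trans h2]
    exact hkill _
  obtain ⟨e⟩ := c.nonempty_push_modTwist I.subschemeι (Coh.structureModule I.subscheme) n
  obtain ⟨j, hj⟩ := c.exists_mem x
  obtain ⟨z, hz⟩ : x ∈ Set.range I.subschemeι := by
    rw [Scheme.IdealSheafData.range_subschemeι]
    simp [I, T]
  let j' : (c.comap I.subschemeι).ι := j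
  have hV : (⊤ : I.subscheme.Opens) ≤ (c.comap I.subschemeι).D j' := fun v _ => by
    show I.subschemeι v ∈ c.D j
    rw [hrange v]
    exact hj
  let t : (c.comap I.subschemeι).msect (Coh.structureModule I.subscheme) n ⊤ :=
    (c.comap I.subschemeι).mbase n j' hV (1 : Γ(I.subscheme, ⊤))
  have hinjₑ : Function.Injective (e.hom.app ⊤) :=
    (ConcreteCategory.bijective_of_isIso (e.hom.app ⊤)).1
  have ht : t = 0 := hinjₑ ((hQ (e.hom.app ⊤ t)).trans (map_zero (e.hom.app ⊤).hom).symm)
  have h1 := congrArg (fun a : (c.comap I.subschemeι).msect (Coh.structureModule I.subscheme) n ⊤ => a.1 j') ht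
  simp only [t, Cocycle.mbase_self] at h1
  haveI : Nonempty ↥((⊤ : I.subscheme.Opens) ⊓ (c.comap I.subschemeι).D j') := ⟨⟨z, trivial, hV trivial⟩⟩
  exact one_ne_zero (α := Γ(I.subscheme, ⊤ ⊓ (c.comap I.subschemeι).D j')) ((map_one (I.subscheme.presheaf.map
    (homOfLE inf_le_left).op).hom).symm.trans h1)

include k in
/-- A positive power has a section not vanishing at a given closed point of the zero locus of a
section, if the modules supported there are eventually acyclic. -/
theorem exists_sect_mem {m : ℕ} (s : c.sect m ⊤) {x : X} (hx : IsClosed ({x} : Set X)) (hxs : x ∉ c.locus s)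
    (hsmall : ∀ P : X.Modules, Coh.IsCoh P → CohB1.support P ⊆ (c.locus s : Set X)ᶜ → EvAcyclic c P) :
    ∃ (n : ℕ) (b : c.sect n ⊤), 0 < n ∧ x ∈ c.locus b := by
  obtain ⟨n, hn, hinj⟩ := exists_injective_mraise c k (SerreVanish.isCoh_vMod k (⟨{x}, hx⟩ : Closeds X)) s hsmall
  obtain ⟨b, hb⟩ := exists_sect_of_injective c k s hx hxs hinj
  exact ⟨n, b, hn, hb⟩

include k in
/-- A power is globally generated if it has a section along whose zero locus the coherent modules
are eventually acyclic. -/
theorem exists_isGloballyGenerated {m : ℕ} (hm : 0 < m) (s : c.sect m ⊤)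
    (hsmall : ∀ P : X.Modules, Coh.IsCoh P → CohB1.support P ⊆ (c.locus s : Set X)ᶜ → EvAcyclic c P) :
    ∃ N : ℕ, Curv2.IsGloballyGenerated (c.twist (N + 1)) := by
  classical
  haveI := Euler.isNoetherian_of_proper (X := X) k
  have hpt : ∀ p : X, ∃ (n : ℕ) (b : c.sect n ⊤), 0 < n ∧ p ∈ c.locus b := by
    intro p
    obtain ⟨x, hxp, hx⟩ := (isClosed_closure (s := ({p} : Set X))).exists_closed_singleton
      (closure_nonempty_iff.2 (Set.singleton_nonempty p))
    have hsp : ∀ {n : ℕ} (b : c.sect n ⊤), x ∈ c.locus b → p ∈ c.locus b := fun b hb =>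
      (specializes_iff_mem_closure.2 hxp).mem_open (c.locus b).2 hb
    by_cases hxs : x ∈ c.locus s
    · exact ⟨m, s, hm, hsp s hxs⟩
    · obtain ⟨n, b, hn, hb⟩ := exists_sect_mem c k s hx hxs hsmall
      exact ⟨n, b, hn, hsp b hb⟩
  choose n b hn hb using hpt
  obtain ⟨t, ht⟩ := isCompact_univ.elim_finite_subcover (fun p : X => (c.locus (b p) : Set X))
    (fun p => (c.locus (b p)).isOpen) fun p _ => Set.mem_iUnion.2 ⟨p, hb p⟩
  let N := ∏ p ∈ t, n p
  have hN : 0 < N := Finset.prod_pos fun p _ => hn p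
  refine ⟨N - 1, ?_⟩
  rw [Nat.sub_add_cancel hN]
  refine c.isGloballyGenerated_of_generated fun y => ?_
  obtain ⟨p, hp, hy⟩ := Set.mem_iUnion₂.1 (ht (Set.mem_univ y))
  obtain ⟨e, he⟩ : n p ∣ N := Finset.dvd_prod_of_mem n hp
  have he0 : 0 < e := by
    rcases Nat.eq_zero_or_pos e with h | h
    · rw [h, mul_zero] at he; omega
    · exact h
  exact ⟨c.sectCast he.symm (c.sectPow (b p) e), by rw [c.locus_sectCast, c.locus_sectPow _ he0]; exact hy⟩

end GrothLib.Semiample

namespace GrothLib.Semiample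

variable {X : Scheme.{u}} (k : Type u) [Field k] [X.Over (Spec (CommRingCat.of k))]
  [IsProper (X ↘ Spec (CommRingCat.of k))]

include k in
/-- A module positive on the curves with an effective power on each integral subscheme is ample. -/
theorem isAmple_of_effective {L : X.Modules} (hL : PicF.IsInvertible L)
    (hpos : ∀ C : X.IdealSheafData, IsIntegral C.subscheme →
      topologicalKrullDim (C.support : Set X) = 1 →
        0 < Curv2.euler k X (CohB1.tensorMod (ClSub.quotMod C) L) - Curv2.euler k X (ClSub.quotMod C))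
    (heff : ∀ Z : X.IdealSheafData, IsIntegral Z.subscheme →
      ∃ (m : ℕ) (s : Coh.structureModule Z.subscheme ⟶
          CohB1.tensorPow ((Scheme.Modules.pullback Z.subschemeι).obj L) (m + 1)), s ≠ 0) :
    CohB1.IsAmple L := by
  classical
  haveI := Euler.isNoetherian_of_proper (X := X) k
  refine Nakai.isAmple_of_integral k hL fun Z i hi hZ => ?_
  suffices h : ∀ (T : Closeds X) (x : X), closure ({x} : Set X) = T →
      CohB1.IsAmple ((Scheme.Modules.pullback
        (Scheme.IdealSheafData.vanishingIdeal (⟨closure ({x} : Set X), isClosed_closure⟩ : Closeds X)).subschemeι).obj L) by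
    let x := i (genericPoint Z)
    have hker := Nakai.vanishingIdeal_eq_ker i
    let ι := (Scheme.IdealSheafData.vanishingIdeal (⟨closure ({x} : Set X), isClosed_closure⟩ : Closeds X)).subschemeι
    have hle : ι.ker ≤ i.ker := by rw [Scheme.IdealSheafData.ker_subschemeι, hker]
    let g := IsClosedImmersion.lift ι i hle
    have hg : g ≫ ι = i := IsClosedImmersion.lift_fac ι i hle
    haveI : IsClosedImmersion (g ≫ ι) := hg ▸ hi
    haveI : IsClosedImmersion g := IsClosedImmersion.of_comp g ι
    have h' := Ample.isAmple_pullback_of_isAffineHom g (h ⟨_, isClosed_closure⟩ x rfl)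
    rw [Ample.isAmple_pullback_comp_iff, hg] at h'
    exact h'
  intro T
  induction T using WellFounded.induction (r := ((· < ·) : Closeds X → Closeds X → Prop)) wellFounded_lt with
  | _ T ih =>
  intro x hx
  let I := Scheme.IdealSheafData.vanishingIdeal (⟨closure ({x} : Set X), isClosed_closure⟩ : Closeds X)
  letI : I.subscheme.Over (Spec (CommRingCat.of k)) := ⟨I.subschemeι ≫ X ↘ Spec (CommRingCat.of k)⟩
  haveI : IsProper (I.subscheme ↘ Spec (CommRingCat.of k)) :=
    inferInstanceAs (IsProper (I.subschemeι ≫ X ↘ Spec (CommRingCat.of k)))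
  haveI : IsIntegral I.subscheme := Snapper.isIntegral_pt x
  haveI := Euler.isNoetherian_of_proper (X := I.subscheme) k
  let LZ := (Scheme.Modules.pullback I.subschemeι).obj L
  have hLZ : PicF.IsInvertible LZ := Ample.isInvertible_pullback _ hL
  obtain ⟨c, ⟨e⟩⟩ := Ample.exists_cocycle hLZ
  have hproper : ∀ (W : Scheme.{u}) (j : W ⟶ I.subscheme), IsClosedImmersion j → IsIntegral W →
      genericPoint I.subscheme ∉ Set.range j → (c.comap j).IsAmp := by
    intro W j hj hW hη
    let y := I.subschemeι (j (genericPoint W))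
    have hyT : closure ({y} : Set X) ⊆ (T : Set X) := by
      rw [← hx]
      refine isClosed_closure.closure_subset_iff.2 (Set.singleton_subset_iff.2 ?_)
      rw [← Snapper.range_pt x]
      exact ⟨_, rfl⟩
    have hy := ih ⟨_, isClosed_closure⟩ (lt_of_le_of_ne (fun z hz => hyT hz) fun h => hη ?_) y rfl
    · let Iy := Scheme.IdealSheafData.vanishingIdeal (⟨closure ({y} : Set X), isClosed_closure⟩ : Closeds X)
      have hker : Iy.subschemeι.ker ≤ (j ≫ I.subschemeι).ker := by
        rw [Scheme.IdealSheafData.ker_subschemeι]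
        exact (Nakai.vanishingIdeal_eq_ker (j ≫ I.subschemeι)).le
      let g := IsClosedImmersion.lift Iy.subschemeι (j ≫ I.subschemeι) hker
      have hg : g ≫ Iy.subschemeι = j ≫ I.subschemeι := IsClosedImmersion.lift_fac _ _ hker
      haveI : IsClosedImmersion (g ≫ Iy.subschemeι) := hg ▸ inferInstance
      haveI : IsClosedImmersion g := IsClosedImmersion.of_comp g Iy.subschemeι
      have h' := Ample.isAmple_pullback_of_isAffineHom g hy
      rw [Ample.isAmple_pullback_comp_iff, hg, ← Ample.isAmple_pullback_comp_iff] at h'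
      obtain ⟨e'⟩ := c.nonempty_pullback_iso j e
      exact (((c.comap j).isAmple_iff e').1 h').2
    · have hxy : x ∈ closure ({y} : Set X) := by
        rw [show closure ({y} : Set X) = (T : Set X) from SetLike.ext'_iff.1 h, ← hx]
        exact subset_closure rfl
      have hyr : closure ({y} : Set X) ⊆ Set.range (j ≫ I.subschemeι) :=
        (j ≫ I.subschemeι).isClosedEmbedding.isClosed_range.closure_subset_iff.2
          (Set.singleton_subset_iff.2 ⟨genericPoint W, rfl⟩)
      obtain ⟨w, hw⟩ := hyr hxy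
      refine ⟨w, I.subschemeι.isClosedEmbedding.injective (hw.trans ?_)⟩
      have h1 := QCoh.closure_singleton_eq_range I.subschemeι
      rw [Snapper.range_pt] at h1
      exact ((Inseparable.eq (inseparable_iff_closure_eq.2 h1))).symm
  obtain ⟨m, t, ht⟩ := heff I inferInstance
  obtain ⟨d⟩ := c.nonempty_tensorPow_iso e (m + 1)
  obtain ⟨a, ha⟩ := c.exists_hom_eq (t ≫ d.hom)
  have ha0 : c.locus a ≠ ⊥ := by
    intro hb
    refine ht ((cancel_mono d.hom).1 ?_)
    rw [← ha, zero_comp]
    refine Scheme.Modules.hom_ext _ _ fun V => ?_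
    ext (r : Γ(I.subscheme, V))
    refine (c.hom_app_apply a V r).trans ?_
    have h0 : c.sectRes (le_top : V ≤ ⊤) a = 0 := c.sect_ext fun l => by
      change (I.subscheme.presheaf.map _).hom (a.1 l) = 0
      rw [Nakai.eq_zero_of_locus_eq_bot c a hb l, map_zero]
    rw [h0, smul_zero]
    rfl
  have hη : genericPoint I.subscheme ∈ c.locus a := by
    obtain ⟨y, hy⟩ := (Opens.ne_bot_iff_nonempty _).1 ha0
    exact (genericPoint_specializes y).mem_open (c.locus a).2 hy
  obtain ⟨N, hN⟩ := exists_isGloballyGenerated c k m.succ_pos a fun P hP hPs =>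
    Nakai.evAcyclic_of_pieces c k hP fun W j hj hW hWP => hproper W j hj hW fun h => hPs (hWP h) hη
  refine isAmple_of_semiample k hLZ (fun C hC hC1 => ?_) (m := N)
    (Ample.isGloballyGenerated_of_iso (c.nonempty_tensorPow_iso e (N + 1)).some.symm hN)
  let j := C.subschemeι ≫ I.subschemeι
  letI : C.subscheme.Over (Spec (CommRingCat.of k)) := ⟨j ≫ X ↘ Spec (CommRingCat.of k)⟩
  haveI : IsProper (C.subscheme ↘ Spec (CommRingCat.of k)) :=
    inferInstanceAs (IsProper (j ≫ X ↘ Spec (CommRingCat.of k)))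
  haveI := hC
  haveI : IsIntegral j.ker.subscheme :=
    haveI : Nonempty j.ker.subscheme := ⟨j.toImage (genericPoint C.subscheme)⟩
    isIntegral_of_isOpenImmersion (inv j.toImage)
  have hj1 : topologicalKrullDim (j.ker.support : Set X) = 1 := by
    rw [← Scheme.IdealSheafData.range_subschemeι, ← IsHomeomorph.topologicalKrullDim_eq _
      j.ker.subschemeι.isClosedEmbedding.isEmbedding.toHomeomorph.isHomeomorph,
      ← IsHomeomorph.topologicalKrullDim_eq _ (asIso j.toImage).hom.homeomorph.isHomeomorph,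
      IsHomeomorph.topologicalKrullDim_eq _
        C.subschemeι.isClosedEmbedding.isEmbedding.toHomeomorph.isHomeomorph,
      Scheme.IdealSheafData.range_subschemeι]
    exact hC1
  have h := hpos j.ker inferInstance hj1
  have hO := Euler.isInvertible_structure (X := I.subscheme)
  rw [← Scheme.IdealSheafData.ker_subschemeι C, ← Kleiman.euler_pullback_eq_quotMod k C.subschemeι
    (Category.assoc _ _ _).symm hLZ,
    ← Kleiman.euler_tensor_structure k (ClSub.quotMod C.subschemeι.ker),
    ← Kleiman.euler_pullback_eq_quotMod k C.subschemeι (Category.assoc _ _ _).symm hO,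
    Euler.euler_of_iso k (Ample.nonempty_pullback_structureModule C.subschemeι).some]
  rw [← Kleiman.euler_pullback_eq_quotMod k j rfl hL, ← Kleiman.euler_tensor_structure k (ClSub.quotMod j.ker),
    ← Kleiman.euler_pullback_eq_quotMod k j rfl Euler.isInvertible_structure,
    Euler.euler_of_iso k (Ample.nonempty_pullback_structureModule j).some,
    ← Euler.euler_of_iso k ((Scheme.Modules.pullbackComp C.subschemeι I.subschemeι).app L)] at h
  exact h

end GrothLib.Semiample

namespace GrothLib.Semiample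

variable {X : Scheme.{u}} (c : Cocycle X) (k : Type u) [Field k] [X.Over (Spec (CommRingCat.of k))]
  [IsProper (X ↘ Spec (CommRingCat.of k))]

include k in
/-- Multiplication by a section of the module itself is injective on first cohomology in all large degrees. -/
theorem eventually_injective_mraise {M : X.Modules} (hM : Coh.IsCoh M) (s : c.sect 1 ⊤)
    (hsmall : ∀ P : X.Modules, Coh.IsCoh P → CohB1.support P ⊆ (c.locus s : Set X)ᶜ → EvAcyclic c P) :
    ∃ n₀, ∀ n, n₀ ≤ n → Function.Injective (Cohom.hhMap k (c.mraiseHom M s n 1) 1) := by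
  haveI := Euler.isNoetherian_of_proper (X := X) k
  obtain ⟨n₁, hn₁⟩ := Nakai.exists_surjective_hhMap c k hM s hsmall
  haveI hfd : ∀ n, FiniteDimensional k (Coh.HH X (c.modTwist M n) 1) := fun n =>
    Euler.finiteDimensional_HH k (Euler.isCoh_modTwist c hM n) 1
  let f : ℕ → ℕ := fun N => Module.finrank k (Coh.HH X (c.modTwist M (n₁ + N)) 1)
  have hstep : ∀ N, f (N + 1) ≤ f N := fun N => by
    refine le_trans (le_of_eq ?_) (LinearMap.finrank_le_finrank_of_surjective (hn₁ (n₁ + N) (by omega) 1))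
    show Module.finrank k (Coh.HH X (c.modTwist M (n₁ + (N + 1))) 1) = _
    rw [show n₁ + (N + 1) = n₁ + N + 1 * 1 by ring]
  obtain ⟨N, hN⟩ : ∃ N, ∀ N', f N ≤ f N' := ⟨Function.argmin f, fun N' => Function.argmin_le f N'⟩
  have hanti : ∀ j, f (N + j) ≤ f N := fun j => by
    induction j with
    | zero => exact le_rfl
    | succ j ih => exact (hstep (N + j)).trans ih
  refine ⟨n₁ + N, fun n hn => ?_⟩
  obtain ⟨j, rfl⟩ : ∃ j, n = n₁ + (N + j) := ⟨n - n₁ - N, by omega⟩
  have hsurj := hn₁ (n₁ + (N + j)) (by omega) 1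
  refine (LinearMap.injective_iff_surjective_of_finrank_eq_finrank ?_).2 hsurj
  refine le_antisymm ?_ (LinearMap.finrank_le_finrank_of_surjective hsurj)
  refine ((hanti j).trans (hN (N + j + 1))).trans (le_of_eq ?_)
  show Module.finrank k (Coh.HH X (c.modTwist M (n₁ + (N + j + 1))) 1) = _
  rw [show n₁ + (N + j + 1) = n₁ + (N + j) + 1 * 1 by ring]

include k in
/-- All large powers are generated, if the modules supported on the zero locus of a section are eventually acyclic. -/
theorem eventually_isGloballyGenerated (s : c.sect 1 ⊤)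
    (hsmall : ∀ P : X.Modules, Coh.IsCoh P → CohB1.support P ⊆ (c.locus s : Set X)ᶜ → EvAcyclic c P) :
    ∃ N : ℕ, ∀ n, N ≤ n → Curv2.IsGloballyGenerated (c.twist n) := by
  classical
  haveI := Euler.isNoetherian_of_proper (X := X) k
  have hpt : ∀ p : X, ∃ (a : ℕ) (O : X.Opens), p ∈ O ∧
      ∀ n, a ≤ n → ∀ y ∈ O, ∃ b : c.sect n ⊤, y ∈ c.locus b := by
    intro p
    obtain ⟨x, hxp, hx⟩ := (isClosed_closure (s := ({p} : Set X))).exists_closed_singleton
      (closure_nonempty_iff.2 (Set.singleton_nonempty p))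
    have hsp : ∀ (U : X.Opens), x ∈ U → p ∈ U := fun U hU =>
      (specializes_iff_mem_closure.2 hxp).mem_open U.2 hU
    by_cases hxs : x ∈ c.locus s
    · refine ⟨1, c.locus s, hsp _ hxs, fun n hn y hy => ?_⟩
      exact ⟨c.sectCast (one_mul n) (c.sectPow s n), by rw [c.locus_sectCast, c.locus_sectPow _ hn]; exact hy⟩
    · obtain ⟨n₀, hn₀⟩ := eventually_injective_mraise c k (SerreVanish.isCoh_vMod k (⟨{x}, hx⟩ : Closeds X)) s hsmall
      obtain ⟨b₁, hb₁⟩ := exists_sect_of_injective c k s hx hxs (hn₀ (n₀ + 1) (by omega))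
      obtain ⟨b₂, hb₂⟩ := exists_sect_of_injective c k s hx hxs (hn₀ (n₀ + 2) (by omega))
      refine ⟨(n₀ + 1) * (n₀ + 1), c.locus b₁ ⊓ c.locus b₂, ⟨hsp _ hb₁, hsp _ hb₂⟩, fun n hn y hy => ?_⟩
      obtain ⟨α, β, hαβ⟩ : ∃ α β, n = (n₀ + 1) * α + (n₀ + 2) * β := by
        have hr : n % (n₀ + 1) ≤ n₀ := Nat.lt_succ_iff.1 (Nat.mod_lt _ (Nat.succ_pos _))
        have hq : n₀ + 1 ≤ n / (n₀ + 1) := (Nat.le_div_iff_mul_le (Nat.succ_pos _)).2 hn
        obtain ⟨α, hα⟩ : ∃ α, n / (n₀ + 1) = α + n % (n₀ + 1) := ⟨n / (n₀ + 1) - n % (n₀ + 1), by omega⟩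
        refine ⟨α, n % (n₀ + 1), ?_⟩
        have h := Nat.mod_add_div n (n₀ + 1)
        rw [hα] at h
        conv_lhs => rw [← h]
        ring
      refine ⟨c.sectCast hαβ.symm (c.mul (c.sectPow b₁ α) (c.sectPow b₂ β)), ?_⟩
      rw [c.locus_sectCast, c.locus_mul]
      exact ⟨c.le_locus_sectPow _ _ hy.1, c.le_locus_sectPow _ _ hy.2⟩
  choose a O hO ha using hpt
  obtain ⟨t, ht⟩ := isCompact_univ.elim_finite_subcover (fun p : X => (O p : Set X))
    (fun p => (O p).isOpen) fun p _ => Set.mem_iUnion.2 ⟨p, hO p⟩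
  refine ⟨t.sup a, fun n hn => c.isGloballyGenerated_of_generated fun y => ?_⟩
  obtain ⟨p, hp, hy⟩ := Set.mem_iUnion₂.1 (ht (Set.mem_univ y))
  exact ha p n ((Finset.le_sup hp).trans hn) y hy

end GrothLib.Semiample
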